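import Cfsg.Agent.Lib.BlockP.InducedDeg
import Cfsg.Agent.Lib.Char.Complete

/-!
# Inner products of characters on `p`-regular elements, inside a block

For `χ, ψ` in the `p`-block `B`, let `A(χ, ψ) = ∑_L χ(x_L) ω_ψ(x_L⁻¹)`, the sum over the `p`-regular
classes `L`; one has `∑_{x reg} χ(x) conj ψ(x) = ψ(1) A(χ, ψ)`, and `A(χ, ψ)` modulo the local ideal
depends only on `χ`.  The expansion of `χ_reg` in irreducibles, averaged over a Sylow `p`-subgroup,
gives `f(χ) g' ≡ A(χ, ψ) W`, where `f(ψ) = ψ(1) / p^h`, `p^h` being the least power of `p`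
among the degrees of `B`, `g'` the `p'`-part of `|G|`, and `∑_{ψ ∈ B} ψ(1)² = p^(a + h) W`.
Hence `W` is a unit, and `A(χ, ψ)` is a unit exactly when `χ` has height zero.
-/

set_option autoImplicit false

namespace Cfsg.Agent.Lib.BlockP.RegPair

open Cfsg Module
open Cfsg.Agent.Lib.Blocks.Local
open Cfsg.Agent.Lib.Blocks.Central
open Cfsg.Agent.Lib.Blocks.Weak
open Cfsg.Agent.Lib.BlockP.Stable
open Cfsg.Agent.Lib.BlockP.Defect
open Cfsg.Agent.Lib.BlockP.InducedDeg
open scoped ComplexConjugate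

universe u

variable {G : Type u} [Group G] [Fintype G]

/-- A class function sums over the classes. -/
theorem sum_eq_sum_classes [Fintype (ConjClasses G)] (f : G → ℂ)
    (hf : ∀ g h : G, IsConj g h → f g = f h) :
    ∑ g, f g = ∑ C : ConjClasses G,
      ((Subgroup.centralizer ({C.out} : Set G)).index : ℂ) * f C.out := by
  classical
  rw [← Finset.sum_fiberwise Finset.univ (fun g => ConjClasses.mk g) f]
  refine Fintype.sum_congr _ _ fun C => ?_
  have h1 : ∀ g ∈ Finset.univ.filter (fun g => ConjClasses.mk g = C), f g = f C.out := by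
    intro g hg
    have h2 := (Finset.mem_filter.mp hg).2
    rw [← h2]
    exact (hf _ _ (isConj_out g)).symm
  rw [Finset.sum_congr rfl h1, Finset.sum_const, nsmul_eq_mul]
  congr 2
  rw [← Cfsg.Agent.Lib.Char.Central.card_filter_isConj C.out]
  congr 1
  ext g
  simp only [Finset.mem_filter, Finset.mem_univ, true_and]
  constructor
  · intro h2
    rw [← h2]
    exact isConj_out g
  · intro h2
    rw [← out_isConj C]
    exact (ConjClasses.mk_eq_mk_iff_isConj.mpr h2).symm

omit [Fintype G] in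
theorem orderOf_of_isConj {g h : G} (hgh : IsConj g h) : orderOf g = orderOf h := by
  obtain ⟨c, rfl⟩ := isConj_iff.mp hgh
  exact (MulEquiv.orderOf_eq (MulAut.conj c) g).symm

open Classical in
/-- The sum `∑_L χ(x_L) ω_ψ(x_L⁻¹)` over the `p`-regular classes. -/
noncomputable def regA [Fintype (ConjClasses G)] (p : ℕ) (χ ψ : G → ℂ) : ℂ :=
  ∑ C : ConjClasses G, if p ∣ orderOf C.out then 0 else χ C.out * centralChar ψ (C.out)⁻¹

open Classical in
/-- The sum over `p`-regular elements in terms of `regA`. -/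
theorem sum_reg_eq [Fintype (ConjClasses G)] (p : ℕ) (χ ψ : IrrCharacter G) :
    (∑ x : G, if p ∣ orderOf x then 0 else (χ : G → ℂ) x * conj ((ψ : G → ℂ) x)) =
      (ψ : G → ℂ) 1 * regA p (χ : G → ℂ) (ψ : G → ℂ) := by
  have hψ1 := Cfsg.Agent.Lib.Char.Complete.irr_one_ne_zero ψ.2
  have hcl := fun (θ : IrrCharacter G) => Cfsg.Agent.Lib.Char.Basic.isClassFunction_of_isIrrCharacter θ.2
  rw [sum_eq_sum_classes (fun x => if p ∣ orderOf x then 0 else (χ : G → ℂ) x * conj ((ψ : G → ℂ) x))]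
  · rw [regA, Finset.mul_sum]
    refine Fintype.sum_congr _ _ fun C => ?_
    split_ifs with h
    · simp
    · rw [centralChar, centralizer_inv, Cfsg.Agent.Lib.Char.Ortho.char_inv_eq_conj
        (Cfsg.Agent.Lib.Char.Basic.isCharacter_of_isIrrCharacter ψ.2)]
      field_simp
  · intro g h hgh
    rw [orderOf_of_isConj hgh,
      Cfsg.Agent.Lib.Char.Complete.isClassFunction_iff_isConj.mp (hcl χ) _ _ hgh,
      Cfsg.Agent.Lib.Char.Complete.isClassFunction_iff_isConj.mp (hcl ψ) _ _ hgh]

/-- `regA` is a local integer. -/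
theorem memLocalRing_regA [Fintype (ConjClasses G)] {M : Ideal AlgInt} [M.IsPrime] (p : ℕ)
    (χ ψ : IrrCharacter G) : MemLocalRing M (regA p (χ : G → ℂ) (ψ : G → ℂ)) := by
  classical
  rw [regA]
  apply memLocalRing_sum
  intro C _
  split_ifs
  · exact memLocalRing_zero
  · exact memLocalRing_mul (memLocalRing_of_isIntegral (isIntegral_irr χ _))
      (memLocalRing_of_isIntegral (isIntegral_centralChar ψ _))

/-- `regA` depends, modulo the local ideal, only on the block of the second argument. -/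
theorem regA_sub_mem [Fintype (ConjClasses G)] {M : Ideal AlgInt} [M.IsPrime] (p : ℕ)
    (χ : IrrCharacter G) {ψ ψ' : IrrCharacter G} (h : SameBlock M (ψ : G → ℂ) (ψ' : G → ℂ)) :
    MemLocalIdeal M (regA p (χ : G → ℂ) (ψ : G → ℂ) - regA p (χ : G → ℂ) (ψ' : G → ℂ)) := by
  classical
  rw [regA, regA, ← Finset.sum_sub_distrib]
  apply memLocalIdeal_sum
  intro C _
  split_ifs
  · rw [sub_zero]
    exact memLocalIdeal_zero
  · rw [← mul_sub]
    exact memLocalIdeal_mul_left (memLocalRing_of_isIntegral (isIntegral_irr χ _)) (h _)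

/-- `regA` vanishes for characters in different blocks. -/
theorem regA_eq_zero [Fintype (IrrCharacter G)] [Fintype (ConjClasses G)] {M : Ideal AlgInt} {p : ℕ} (hM : IsPModular p M)
    {χ ψ : IrrCharacter G} (h : ¬ SameBlock M (χ : G → ℂ) (ψ : G → ℂ)) :
    regA p (χ : G → ℂ) (ψ : G → ℂ) = 0 := by
  classical
  have hψ1 := Cfsg.Agent.Lib.Char.Complete.irr_one_ne_zero ψ.2
  have h1 := sum_regular_eq_zero hM h
  have h2 := sum_reg_eq p χ ψ
  have h3 : (∑ x : G, if p ∣ orderOf x then 0 else (χ : G → ℂ) x * conj ((ψ : G → ℂ) x)) = 0 := by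
    refine Eq.trans ?_ h1
    refine Fintype.sum_congr _ _ fun x => ?_
    by_cases hx : p ∣ orderOf x
    · rw [if_pos hx, if_neg (not_not.mpr hx)]
    · rw [if_neg hx, if_pos hx]
  rw [h3] at h2
  exact (mul_eq_zero.mp h2.symm).resolve_left hψ1

/-- The average of `ψ` on a subgroup. -/
noncomputable def betaP (P : Subgroup G) [Fintype P] (ψ : G → ℂ) : ℂ :=
  (Nat.card P : ℂ)⁻¹ * ∑ u : P, ψ u

theorem memLocalRing_betaP {M : Ideal AlgInt} [M.IsPrime] (P : Subgroup G) [Fintype P]
    (ψ : IrrCharacter G) : MemLocalRing M (betaP P (ψ : G → ℂ)) := by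
  have h := isIntegral_avg (Cfsg.Agent.Lib.Char.Basic.isCharacter_of_isIrrCharacter ψ.2) 1 P
    (fun u _ => Commute.one_left u)
  simp only [one_mul] at h
  exact memLocalRing_of_isIntegral h

section Main

variable [Fintype (IrrCharacter G)] [Fintype (ConjClasses G)]
variable {M : Ideal AlgInt} {p : ℕ} (hM : IsPModular p M)
variable {B : Set (IrrCharacter G)} (hB : IsPBlock M B)
variable (P : Sylow p G) [Fintype (P : Subgroup G)]

/-- The degree of a member of `B` divided by the least power of `p`. -/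
noncomputable def fDeg (p : ℕ) (B : Set (IrrCharacter G)) (ψ : IrrCharacter G) : ℕ :=
  charDegree (ψ : G → ℂ) / p ^ minExp p B

include hM in
omit [Fintype (IrrCharacter G)] [Fintype (ConjClasses G)] in
theorem deg_eq_mul {ψ : IrrCharacter G} (hψ : ψ ∈ B) :
    charDegree (ψ : G → ℂ) = p ^ minExp p B * fDeg p B ψ := by
  have hp := prime_of_pModular hM
  have hne := (Cfsg.Agent.Lib.Char.Degree.charDegree_pos ψ.2).ne'
  obtain ⟨m, hm⟩ := (Nat.Prime.pow_dvd_iff_le_factorization hp hne).mpr (minExp_le p hψ)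
  rw [fDeg, hm, Nat.mul_div_cancel_left _ (pow_pos hp.pos _)]

include hM in
omit [Fintype (IrrCharacter G)] [Fintype (ConjClasses G)] in
theorem one_eq_mul {ψ : IrrCharacter G} (hψ : ψ ∈ B) :
    (ψ : G → ℂ) 1 = (p : ℂ) ^ minExp p B * (fDeg p B ψ : ℂ) := by
  rw [← Cfsg.Agent.Lib.Char.Degree.charDegree_natCast
    (Cfsg.Agent.Lib.Char.Basic.isCharacter_of_isIrrCharacter ψ.2), deg_eq_mul hM hψ]
  push_cast
  ring

omit [Fintype (IrrCharacter G)] [Fintype (ConjClasses G)] in
/-- The nontrivial elements of a Sylow subgroup are `p`-singular. -/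
theorem dvd_orderOf_of_mem (hp : p.Prime) (u : (P : Subgroup G)) (hu : u ≠ 1) :
    p ∣ orderOf (u : G) := by
  obtain ⟨k, hk⟩ := P.isPGroup' u
  have hu1 : (u : G) ^ p ^ k = 1 := by
    have := congrArg Subtype.val hk
    simpa using this
  have h1 : (u : G) ≠ 1 := fun h => hu (Subtype.ext h)
  have h2 : orderOf (u : G) ∣ p ^ k := orderOf_dvd_of_pow_eq_one hu1
  obtain ⟨j, _, hj⟩ := (Nat.dvd_prime_pow hp).mp h2
  rcases j with _ | j
  · exact absurd (orderOf_eq_one_iff.mp (by simpa using hj)) h1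
  · rw [hj, pow_succ]
    exact Dvd.intro_left _ rfl

open Classical in
/-- The number `W`. -/
noncomputable def wNum (p : ℕ) (B : Set (IrrCharacter G)) (P : Subgroup G) [Fintype P] : ℂ :=
  ∑ i : IrrCharacter G, if i ∈ B then (fDeg p B i : ℂ) * betaP P (i : G → ℂ) else 0

theorem memLocalRing_wNum [M.IsPrime] (Q : Subgroup G) [Fintype Q] :
    MemLocalRing M (wNum p B Q) := by
  classical
  rw [wNum]
  apply memLocalRing_sum
  intro i _
  split_ifs
  · exact memLocalRing_mul (memLocalRing_natCast _) (memLocalRing_betaP Q i)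
  · exact memLocalRing_zero

include hM hB in
/-- `∑_{ψ ∈ B} ψ(1)² = p^a p^h W`. -/
theorem sum_sq_eq [DecidablePred (· ∈ B)] :
    (∑ i : IrrCharacter G, if i ∈ B then (i : G → ℂ) 1 * (i : G → ℂ) 1 else 0) =
      (p : ℂ) ^ (Nat.card G).factorization p * ((p : ℂ) ^ minExp p B * wNum p B (P : Subgroup G)) := by
  classical
  have hp := prime_of_pModular hM
  haveI : Fact p.Prime := ⟨hp⟩
  have hcard : (Nat.card (P : Subgroup G) : ℂ) = (p : ℂ) ^ (Nat.card G).factorization p := by
    rw [P.card_eq_multiplicity]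
    push_cast
    rfl
  have hcard0 : (Nat.card (P : Subgroup G) : ℂ) ≠ 0 := Nat.cast_ne_zero.mpr Nat.card_pos.ne'
  -- the weak orthogonality
  have h1 : ∀ u : (P : Subgroup G), u ≠ 1 →
      (∑ i : IrrCharacter G, if i ∈ B then (i : G → ℂ) 1 * (i : G → ℂ) u else 0) = 0 := by
    intro u hu
    have h2 := sum_block_eq_zero hM hB 1 (u : G)⁻¹ (by
      rw [orderOf_one]
      exact hp.one_lt.ne' ∘ Nat.dvd_one.mp) (by
      rw [orderOf_inv]
      exact dvd_orderOf_of_mem P hp u hu)
    refine Eq.trans ?_ h2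
    refine Fintype.sum_congr _ _ fun i => ?_
    split_ifs with hi
    · rw [← Cfsg.Agent.Lib.Char.Ortho.char_inv_eq_conj
        (Cfsg.Agent.Lib.Char.Basic.isCharacter_of_isIrrCharacter i.2), inv_inv]
    · rfl
  have h3 : (∑ i : IrrCharacter G, if i ∈ B then (i : G → ℂ) 1 * (i : G → ℂ) 1 else 0) =
      ∑ u : (P : Subgroup G), ∑ i : IrrCharacter G,
        if i ∈ B then (i : G → ℂ) 1 * (i : G → ℂ) u else 0 := by
    rw [Finset.sum_eq_single (1 : (P : Subgroup G))]
    · simp
    · intro u _ hu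
      exact h1 u hu
    · intro h
      exact absurd (Finset.mem_univ _) h
  rw [h3, Finset.sum_comm, wNum, ← hcard]
  rw [Finset.mul_sum, Finset.mul_sum]
  refine Fintype.sum_congr _ _ fun i => ?_
  by_cases hi : i ∈ B
  · simp only [if_pos hi]
    rw [← Finset.mul_sum, one_eq_mul hM hi, betaP]
    field_simp
  · simp [if_neg hi]

include hM in
/-- Expansion of `χ_reg` averaged on the Sylow subgroup. -/
theorem expansion {χ : IrrCharacter G} (hχ : χ ∈ B) (hB : IsPBlock M B) [DecidablePred (· ∈ B)] :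
    (χ : G → ℂ) 1 * ((Nat.card G : ℂ) / (Nat.card (P : Subgroup G) : ℂ)) =
      ∑ i : IrrCharacter G, if i ∈ B then
        (i : G → ℂ) 1 * regA p (χ : G → ℂ) (i : G → ℂ) * betaP (P : Subgroup G) (i : G → ℂ) else 0 := by
  classical
  have hp := prime_of_pModular hM
  haveI := isPrime_of_pModular hM
  have hcard0 : (Nat.card (P : Subgroup G) : ℂ) ≠ 0 := Nat.cast_ne_zero.mpr Nat.card_pos.ne'
  have hG0 : (Nat.card G : ℂ) ≠ 0 := Nat.cast_ne_zero.mpr Nat.card_pos.ne'
  let Θ : G → ℂ := fun x => if p ∣ orderOf x then 0 else (χ : G → ℂ) x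
  have hΘ : IsClassFunction G Θ := by
    rw [Cfsg.Agent.Lib.Char.Complete.isClassFunction_iff_isConj]
    intro g h hgh
    simp only [Θ]
    rw [orderOf_of_isConj hgh, Cfsg.Agent.Lib.Char.Complete.isClassFunction_iff_isConj.mp
      (Cfsg.Agent.Lib.Char.Basic.isClassFunction_of_isIrrCharacter χ.2) _ _ hgh]
  have hexp := Cfsg.Agent.Lib.Char.Complete.classFunction_eq_sum hΘ
  have hcoef : ∀ i : IrrCharacter G, classInner Θ (i : G → ℂ) =
      (Nat.card G : ℂ)⁻¹ * ((i : G → ℂ) 1 * regA p (χ : G → ℂ) (i : G → ℂ)) := by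
    intro i
    rw [Cfsg.Agent.Lib.Char.Ortho.classInner_def, ← sum_reg_eq]
    congr 1
    refine Fintype.sum_congr _ _ fun x => ?_
    simp only [Θ]
    split_ifs <;> simp
  have h1 : ∀ u : G, Θ u = ∑ i : IrrCharacter G,
      (Nat.card G : ℂ)⁻¹ * ((i : G → ℂ) 1 * regA p (χ : G → ℂ) (i : G → ℂ)) * (i : G → ℂ) u := by
    intro u
    have := congrFun hexp u
    rw [Finset.sum_apply] at this
    rw [this]
    refine Fintype.sum_congr _ _ fun i => ?_
    rw [Pi.smul_apply, smul_eq_mul, hcoef]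
  have h2 : ∑ u : (P : Subgroup G), Θ u = (χ : G → ℂ) 1 := by
    rw [Finset.sum_eq_single (1 : (P : Subgroup G))]
    · simp only [Subgroup.coe_one, Θ, orderOf_one]
      rw [if_neg]
      exact hp.one_lt.ne' ∘ Nat.dvd_one.mp
    · intro u _ hu
      simp only [Θ]
      rw [if_pos (dvd_orderOf_of_mem P hp u hu)]
    · intro h
      exact absurd (Finset.mem_univ _) h
  have h3 : ∑ u : (P : Subgroup G), Θ u = ∑ i : IrrCharacter G,
      (Nat.card G : ℂ)⁻¹ * ((i : G → ℂ) 1 * regA p (χ : G → ℂ) (i : G → ℂ)) *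
        ((Nat.card (P : Subgroup G) : ℂ) * betaP (P : Subgroup G) (i : G → ℂ)) := by
    simp only [h1]
    rw [Finset.sum_comm]
    refine Fintype.sum_congr _ _ fun i => ?_
    rw [← Finset.mul_sum, betaP, mul_inv_cancel_left₀ hcard0]
  rw [← h2, h3, Finset.sum_mul]
  refine Fintype.sum_congr _ _ fun i => ?_
  by_cases hi : i ∈ B
  · rw [if_pos hi]
    field_simp
  · rw [if_neg hi]
    have h4 : ¬ SameBlock M (χ : G → ℂ) (i : G → ℂ) := by
      intro h5
      apply hi
      rw [isPBlock_eq_blockOf hB hχ]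
      exact h5
    rw [regA_eq_zero hM h4]
    simp

include hM hB in
/-- `f(χ) g' ≡ A(χ, ψ) W`. -/
theorem fDeg_mul_sub_mem {χ ψ : IrrCharacter G} (hχ : χ ∈ B) (hψ : ψ ∈ B) :
    MemLocalIdeal M ((fDeg p B χ : ℂ) * ((Nat.card G : ℂ) / (Nat.card (P : Subgroup G) : ℂ)) -
      regA p (χ : G → ℂ) (ψ : G → ℂ) * wNum p B (P : Subgroup G)) := by
  classical
  have hp := prime_of_pModular hM
  haveI := isPrime_of_pModular hM
  have hpc : (p : ℂ) ^ minExp p B ≠ 0 := pow_ne_zero _ (Nat.cast_ne_zero.mpr hp.ne_zero)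
  have h1 := expansion hM P hχ hB
  have h2 : (fDeg p B χ : ℂ) * ((Nat.card G : ℂ) / (Nat.card (P : Subgroup G) : ℂ)) =
      ∑ i : IrrCharacter G, if i ∈ B then
        (fDeg p B i : ℂ) * regA p (χ : G → ℂ) (i : G → ℂ) * betaP (P : Subgroup G) (i : G → ℂ)
        else 0 := by
    apply mul_left_cancel₀ hpc
    rw [← mul_assoc, ← one_eq_mul hM hχ, h1, Finset.mul_sum]
    refine Fintype.sum_congr _ _ fun i => ?_
    by_cases hi : i ∈ B
    · simp only [if_pos hi]
      rw [one_eq_mul hM hi]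
      ring
    · simp only [if_neg hi, mul_zero]
  rw [h2, wNum, Finset.mul_sum, ← Finset.sum_sub_distrib]
  apply memLocalIdeal_sum
  intro i _
  by_cases hi : i ∈ B
  · simp only [if_pos hi]
    have h3 : (fDeg p B i : ℂ) * regA p (χ : G → ℂ) (i : G → ℂ) * betaP (P : Subgroup G) (i : G → ℂ) -
        regA p (χ : G → ℂ) (ψ : G → ℂ) * ((fDeg p B i : ℂ) * betaP (P : Subgroup G) (i : G → ℂ)) =
        (regA p (χ : G → ℂ) (i : G → ℂ) - regA p (χ : G → ℂ) (ψ : G → ℂ)) *
          ((fDeg p B i : ℂ) * betaP (P : Subgroup G) (i : G → ℂ)) := by ring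
    rw [h3]
    have hsame : SameBlock M (i : G → ℂ) (ψ : G → ℂ) := by
      have h4 := isPBlock_eq_blockOf hB hi
      rw [h4] at hψ
      exact hψ
    exact memLocalIdeal_mul_right (regA_sub_mem p χ hsame)
      (memLocalRing_mul (memLocalRing_natCast _) (memLocalRing_betaP _ i))
  · simp only [if_neg hi, mul_zero, sub_zero]
    exact memLocalIdeal_zero

include hM in
omit [Fintype (IrrCharacter G)] [Fintype (ConjClasses G)] [Fintype (P : Subgroup G)] in
/-- `g'` is prime to `p`, as a local unit. -/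
theorem cofactor_unit : ¬ MemLocalIdeal M ((Nat.card G : ℂ) / (Nat.card (P : Subgroup G) : ℂ)) := by
  classical
  have hp := prime_of_pModular hM
  haveI := isPrime_of_pModular hM
  haveI : Fact p.Prime := ⟨hp⟩
  have h1 : Nat.card G = Nat.card (P : Subgroup G) * (P : Subgroup G).index :=
    (Subgroup.card_mul_index _).symm
  have h2 : ¬ p ∣ (P : Subgroup G).index := P.not_dvd_index
  have hcard0 : (Nat.card (P : Subgroup G) : ℂ) ≠ 0 := Nat.cast_ne_zero.mpr Nat.card_pos.ne'
  have h3 : (Nat.card G : ℂ) / (Nat.card (P : Subgroup G) : ℂ) = ((P : Subgroup G).index : ℂ) := by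
    rw [h1]
    push_cast
    field_simp
  rw [h3]
  intro h4
  exact h2 ((natCast_memLocalIdeal_iff hM _).mp h4)

include hM in
omit [Fintype (IrrCharacter G)] [Fintype (ConjClasses G)] [Fintype (P : Subgroup G)] in
theorem memLocalRing_cofactor :
    MemLocalRing M ((Nat.card G : ℂ) / (Nat.card (P : Subgroup G) : ℂ)) := by
  classical
  have hp := prime_of_pModular hM
  haveI := isPrime_of_pModular hM
  have h1 : Nat.card G = Nat.card (P : Subgroup G) * (P : Subgroup G).index :=
    (Subgroup.card_mul_index _).symm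
  have hcard0 : (Nat.card (P : Subgroup G) : ℂ) ≠ 0 := Nat.cast_ne_zero.mpr Nat.card_pos.ne'
  have h3 : (Nat.card G : ℂ) / (Nat.card (P : Subgroup G) : ℂ) = ((P : Subgroup G).index : ℂ) := by
    rw [h1]
    push_cast
    field_simp
  rw [h3]
  exact memLocalRing_natCast _

include hM hB in
/-- `W` is a local unit. -/
theorem wNum_unit : ¬ MemLocalIdeal M (wNum p B (P : Subgroup G)) := by
  classical
  have hp := prime_of_pModular hM
  haveI := isPrime_of_pModular hM
  intro hW
  obtain ⟨χ, hχ, hχh⟩ := exists_minExp p (isPBlock_nonempty hB)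
  have h1 := fDeg_mul_sub_mem hM hB P hχ hχ
  have h2 := memLocalIdeal_add h1 (memLocalIdeal_mul_left (memLocalRing_regA p χ χ) hW)
  rw [sub_add_cancel] at h2
  have h3 : ¬ MemLocalIdeal M (fDeg p B χ : ℂ) := by
    intro h4
    have h5 := (natCast_memLocalIdeal_iff hM _).mp h4
    have h6 := Nat.not_dvd_ordCompl hp (Cfsg.Agent.Lib.Char.Degree.charDegree_pos χ.2).ne'
    rw [hχh] at h6
    exact h6 h5
  rcases memLocalIdeal_or_of_mul (memLocalRing_natCast _) (memLocalRing_cofactor hM P) h2 with h4 | h4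
  · exact h3 h4
  · exact cofactor_unit hM P h4

include hM hB in
/-- `A(χ, ψ)` lies in the local ideal exactly when `p` divides `f(χ)`, i.e. `χ` has positive height. -/
theorem regA_mem_iff {χ ψ : IrrCharacter G} (hχ : χ ∈ B) (hψ : ψ ∈ B) :
    MemLocalIdeal M (regA p (χ : G → ℂ) (ψ : G → ℂ)) ↔ p ∣ fDeg p B χ := by
  classical
  have hp := prime_of_pModular hM
  haveI := isPrime_of_pModular hM
  have hP : Nonempty (Sylow p G) := inferInstance
  obtain ⟨P⟩ := hP
  letI : Fintype (P : Subgroup G) := Fintype.ofFinite _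
  have h1 := fDeg_mul_sub_mem hM hB P hχ hψ
  have hW := wNum_unit hM hB P
  constructor
  · intro h2
    have h3 := memLocalIdeal_add h1 (memLocalIdeal_mul_right h2 (memLocalRing_wNum (M := M) (p := p) (B := B) (P : Subgroup G)))
    rw [sub_add_cancel] at h3
    rcases memLocalIdeal_or_of_mul (memLocalRing_natCast _) (memLocalRing_cofactor hM P) h3 with h4 | h4
    · exact (natCast_memLocalIdeal_iff hM _).mp h4
    · exact absurd h4 (cofactor_unit hM P)
  · intro h2
    have h3 : MemLocalIdeal M ((fDeg p B χ : ℂ) * ((Nat.card G : ℂ) / (Nat.card (P : Subgroup G) : ℂ))) :=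
      memLocalIdeal_mul_right ((natCast_memLocalIdeal_iff hM _).mpr h2) (memLocalRing_cofactor hM P)
    have h4 := memLocalIdeal_sub h3 h1
    rw [sub_sub_cancel] at h4
    rcases memLocalIdeal_or_of_mul (memLocalRing_regA p χ ψ) (memLocalRing_wNum (M := M) (p := p) (B := B) (P : Subgroup G)) h4 with h5 | h5
    · exact h5
    · exact absurd h5 hW

end Main

section Numeric

variable {M : Ideal AlgInt} {p : ℕ}

/-- A unit quotient of integers: the exponents of `p` agree. -/
theorem factorization_eq_of_unit (hM : IsPModular p M) {n t : ℕ} (ht : t ≠ 0)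
    (hl : MemLocalRing M ((n : ℂ) / t)) (hu : ¬ MemLocalIdeal M ((n : ℂ) / t)) :
    n ≠ 0 ∧ n.factorization p = t.factorization p := by
  haveI hprime := isPrime_of_pModular hM
  have hn : n ≠ 0 := by
    rintro rfl
    apply hu
    simpa using memLocalIdeal_zero (M := M)
  refine ⟨hn, ?_⟩
  apply le_antisymm
  · by_contra hlt
    push Not at hlt
    exact hu (memLocalIdeal_div hM hn ht hlt)
  · by_contra hlt
    push Not at hlt
    have h1 := memLocalIdeal_div (M := M) hM ht hn hlt
    have h3 := memLocalIdeal_mul_left hl h1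
    have htc : (t : ℂ) ≠ 0 := Nat.cast_ne_zero.mpr ht
    have hnc : (n : ℂ) ≠ 0 := Nat.cast_ne_zero.mpr hn
    have h4 : (n : ℂ) / t * ((t : ℂ) / n) = 1 := by
      field_simp
    rw [h4] at h3
    exact one_notMemLocalIdeal h3

end Numeric

/-- The exponent of `p` in `∑_{χ ∈ B} χ(1)²` is `2a - d`. -/
theorem factorization_sum_sq {M : Ideal AlgInt} {p : ℕ} (hM : IsPModular p M)
    {B : Set (IrrCharacter G)} (hB : IsPBlock M B) :
    (∑ᶠ χ ∈ B, charDegree (χ : G → ℂ) ^ 2).factorization p =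
      2 * (Nat.card G).factorization p - blockDefect p B := by
  classical
  have hp := prime_of_pModular hM
  haveI : Fact p.Prime := ⟨hp⟩
  haveI := isPrime_of_pModular hM
  have hfinI := Cfsg.Agent.Lib.Char.Ortho.finite_irrCharacter (G := G)
  letI := Fintype.ofFinite (IrrCharacter G)
  letI := Fintype.ofFinite (ConjClasses G)
  obtain ⟨P⟩ : Nonempty (Sylow p G) := inferInstance
  letI : Fintype (P : Subgroup G) := Fintype.ofFinite _
  set N := ∑ᶠ χ ∈ B, charDegree (χ : G → ℂ) ^ 2 with hN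
  have hNsum : N = ∑ i : IrrCharacter G, if i ∈ B then charDegree (i : G → ℂ) ^ 2 else 0 := by
    rw [hN, ← finsum_eq_sum_of_fintype]
    exact finsum_congr fun i => finsum_eq_if
  set a := (Nat.card G).factorization p with ha
  set h := minExp p B with hh
  have hNc : (N : ℂ) = (p : ℂ) ^ a * ((p : ℂ) ^ h * wNum p B (P : Subgroup G)) := by
    rw [← sum_sq_eq hM hB P, hNsum, Nat.cast_sum]
    refine Fintype.sum_congr _ _ fun i => ?_
    split_ifs
    · rw [← Cfsg.Agent.Lib.Char.Degree.charDegree_natCast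
        (Cfsg.Agent.Lib.Char.Basic.isCharacter_of_isIrrCharacter i.2)]
      push_cast
      ring
    · simp
  have hpc : (p : ℂ) ≠ 0 := Nat.cast_ne_zero.mpr hp.ne_zero
  have ht : p ^ a * p ^ h ≠ 0 := mul_ne_zero (pow_ne_zero _ hp.ne_zero) (pow_ne_zero _ hp.ne_zero)
  have hdiv : (N : ℂ) / ((p ^ a * p ^ h : ℕ) : ℂ) = wNum p B (P : Subgroup G) := by
    rw [hNc]
    push_cast
    field_simp
  have hres := (factorization_eq_of_unit hM ht
    (by rw [hdiv]; exact memLocalRing_wNum _) (by rw [hdiv]; exact wNum_unit hM hB P)).2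
  have hv : (p ^ a * p ^ h).factorization p = a + h := by
    rw [Nat.factorization_mul (pow_ne_zero _ hp.ne_zero) (pow_ne_zero _ hp.ne_zero)]
    simp [hp.factorization_self, Nat.Prime.factorization_pow hp]
  rw [hres, hv]
  -- the numeric identity
  have hle : h ≤ a := by
    obtain ⟨χ, hχ, hχh⟩ := exists_minExp p (isPBlock_nonempty hB)
    rw [hh, ← hχh]
    have hdvd := Cfsg.Agent.Lib.Char.Degree.charDegree_dvd_card χ.2
    exact (Nat.factorization_le_iff_dvd (Cfsg.Agent.Lib.Char.Degree.charDegree_pos χ.2).ne'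
      Nat.card_pos.ne').mpr hdvd p
  have hdef : blockDefect p B = a - h := rfl
  rw [hdef]
  omega

omit [Fintype G] in
theorem isConj_inv_left_iff (a b : G) : IsConj a⁻¹ b ↔ IsConj a b⁻¹ := by
  constructor
  · intro h
    obtain ⟨c, rfl⟩ := isConj_iff.mp h
    exact isConj_iff.mpr ⟨c, by group⟩
  · intro h
    obtain ⟨c, hc⟩ := isConj_iff.mp h
    refine isConj_iff.mpr ⟨c, ?_⟩
    have : b = (c * a * c⁻¹)⁻¹ := by rw [hc, inv_inv]
    rw [this]
    group

open Classical in
/-- The sum over `p`-regular elements of a subgroup in terms of induced central characters. -/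
theorem sum_reg_subgroup [Fintype (ConjClasses G)] (p : ℕ) (H : Subgroup G) [Fintype H]
    (χ : IrrCharacter G) (ψ : IrrCharacter H) :
    (∑ h : H, if p ∣ orderOf h then 0 else (χ : G → ℂ) h * conj ((ψ : H → ℂ) h)) / (ψ : H → ℂ) 1 =
      ∑ C : ConjClasses G, if p ∣ orderOf C.out then 0 else
        (χ : G → ℂ) C.out * inducedCentralChar H (ψ : H → ℂ) (C.out)⁻¹ := by
  have hψ1 := Cfsg.Agent.Lib.Char.Complete.irr_one_ne_zero ψ.2
  have hcl := Cfsg.Agent.Lib.Char.Basic.isClassFunction_of_isIrrCharacter χ.2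
  have hind : ∀ g : G, inducedCentralChar H (ψ : H → ℂ) g =
      ∑ h : H, if IsConj g (h : G) then (ψ : H → ℂ) h / (ψ : H → ℂ) 1 else 0 := by
    intro g
    rw [inducedCentralChar, ← finsum_eq_sum_of_fintype]
    refine finsum_congr fun h => ?_
    exact finsum_eq_if
  simp_rw [hind]
  let T : H → ℂ := fun h => if p ∣ orderOf h then 0 else
    (χ : G → ℂ) (h : G)⁻¹ * ((ψ : H → ℂ) h / (ψ : H → ℂ) 1)
  have h1 : ∀ C : ConjClasses G, (if p ∣ orderOf C.out then (0 : ℂ) else
      (χ : G → ℂ) C.out * ∑ h : H, if IsConj (C.out)⁻¹ (h : G) then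
        (ψ : H → ℂ) h / (ψ : H → ℂ) 1 else 0) =
      ∑ h : H, if ConjClasses.mk ((h : G)⁻¹) = C then T h else 0 := by
    intro C
    have hconj : ∀ h : H, IsConj (C.out)⁻¹ (h : G) ↔ ConjClasses.mk ((h : G)⁻¹) = C := by
      intro h
      rw [isConj_inv_left_iff]
      constructor
      · intro h2
        rw [← ConjClasses.mk_eq_mk_iff_isConj.mpr h2, out_isConj]
      · intro h2
        rw [← h2]
        exact isConj_out _
    have hord : ∀ h : H, ConjClasses.mk ((h : G)⁻¹) = C → orderOf h = orderOf C.out := by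
      intro h h2
      rw [← Subgroup.orderOf_coe, ← orderOf_inv, ← h2]
      exact (orderOf_of_isConj (isConj_out _)).symm
    split_ifs with hreg
    · symm
      apply Finset.sum_eq_zero
      intro h _
      split_ifs with h2
      · simp only [T]
        rw [if_pos (by rw [hord h h2]; exact hreg)]
      · rfl
    · rw [Finset.mul_sum]
      refine Fintype.sum_congr _ _ fun h => ?_
      by_cases h2 : ConjClasses.mk ((h : G)⁻¹) = C
      · rw [if_pos ((hconj h).mpr h2), if_pos h2]
        simp only [T]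
        rw [if_neg (by rw [hord h h2]; exact hreg)]
        congr 1
        rw [← h2]
        exact Cfsg.Agent.Lib.Char.Complete.isClassFunction_iff_isConj.mp hcl _ _ (isConj_out _)
      · rw [if_neg (fun h3 => h2 ((hconj h).mp h3)), if_neg h2, mul_zero]
  simp_rw [h1]
  rw [Finset.sum_comm]
  have h2 : ∀ h : H, (∑ C : ConjClasses G, if ConjClasses.mk ((h : G)⁻¹) = C then T h else 0) = T h := by
    intro h
    rw [Finset.sum_ite_eq]
    simp
  simp_rw [h2]
  rw [← Equiv.sum_comp (Equiv.inv H) T, Finset.sum_div]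
  refine Fintype.sum_congr _ _ fun h => ?_
  simp only [Equiv.inv_apply, T, orderOf_inv, Subgroup.coe_inv, inv_inv]
  split_ifs with hreg
  · simp
  · rw [Cfsg.Agent.Lib.Char.Ortho.char_inv_eq_conj
      (Cfsg.Agent.Lib.Char.Basic.isCharacter_of_isIrrCharacter ψ.2)]
    ring

open Classical in
/-- Inner product on `p`-regular elements of a subgroup `H`, modulo the local ideal, when the block
`b` of `H` induces `B₀`. -/
theorem sum_reg_subgroup_sub_mem [Fintype (ConjClasses G)] {M : Ideal AlgInt} [M.IsPrime] (p : ℕ)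
    (H : Subgroup G) [Fintype H] {b : Set (IrrCharacter H)} {B₀ : Set (IrrCharacter G)}
    (hind : IsInducedBlock M H b B₀) (χ : IrrCharacter G) {ψ : IrrCharacter H} (hψ : ψ ∈ b)
    {χ₀ : IrrCharacter G} (hχ₀ : χ₀ ∈ B₀) :
    MemLocalIdeal M ((∑ h : H, if p ∣ orderOf h then 0 else
        (χ : G → ℂ) h * conj ((ψ : H → ℂ) h)) / (ψ : H → ℂ) 1 -
      regA p (χ : G → ℂ) (χ₀ : G → ℂ)) := by
  rw [sum_reg_subgroup, regA, ← Finset.sum_sub_distrib]
  apply memLocalIdeal_sum
  intro C _
  split_ifs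
  · rw [sub_zero]
    exact memLocalIdeal_zero
  · rw [← mul_sub]
    exact memLocalIdeal_mul_left (memLocalRing_of_isIntegral (isIntegral_irr χ _))
      (hind.2.2 ψ hψ χ₀ hχ₀ _)

end Cfsg.Agent.Lib.BlockP.RegPair
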