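import Mathlib
import Cfsg.Agent.Lib.BlockP.RegPair
import Cfsg.Agent.Lib.Char.Brauer
import Cfsg.Agent.Lib.Char.RegularSum
import Cfsg.Agent.Lib.Char.Zeros
import Cfsg.Agent.Lib.Char.Degree
import Cfsg.Agent.Lib.BlockT.CharSum

/-!
# Degrees divisible by `p^(a-1)`

If the degree of a member `χ` of a `p`-block is divisible by the `p`-part of `|G|` divided by `p`,
the same is true of all members.  The point: the norm of `χ` on the `p`-regular elements is
rational with denominator a power of `p`, between `0` and `1`, so the sum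
`∑_L χ(x_L) ω_χ(x_L⁻¹)` is a `p`-adic unit.
-/

set_option autoImplicit false
set_option linter.unusedSectionVars false

namespace Cfsg.Agent.Lib.BlockP.TopHeight

open Cfsg Cfsg.Agent.Lib.Blocks.Local Cfsg.Agent.Lib.Blocks.Central
open Cfsg.Agent.Lib.BlockP.RegPair Cfsg.Agent.Lib.BlockP.Defect Cfsg.Agent.Lib.BlockP.Stable
open scoped ComplexConjugate

universe u

variable {G : Type u} [Group G] [Fintype G]

theorem brauerInduction : Cfsg.Agent.Lib.Char.RegularSum.BrauerInduction G := by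
  intro χ hχ
  exact Cfsg.Agent.Lib.Char.IndSpan.exists_list_of_mem_homSpan
    (Cfsg.Agent.Lib.Char.Brauer.mem_homSpan_of_isGenChar
      (Cfsg.Agent.Lib.Char.GenLattice.isGenChar_of_isCharacter hχ))

/-- An algebraic integer which is rational is an integer. -/
theorem exists_int_of_integral_mul {x : ℂ} (hx : IsIntegral ℤ x) {a b : ℤ} (ha : a ≠ 0)
    (h : (a : ℂ) * x = b) : ∃ n : ℤ, x = n := by
  have ha' : (a : ℂ) ≠ 0 := by exact_mod_cast ha
  have hq : x = (((b : ℚ) / (a : ℚ) : ℚ) : ℂ) := by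
    push_cast
    field_simp
    rw [← h]; ring
  have h1 : IsIntegral ℤ ((b : ℚ) / (a : ℚ) : ℚ) := by
    have hinj : Function.Injective (algebraMap ℚ ℂ) := (algebraMap ℚ ℂ).injective
    rw [← isIntegral_algebraMap_iff hinj]
    have : algebraMap ℚ ℂ ((b : ℚ) / (a : ℚ)) = x := by
      rw [hq]; simp
    rw [this]
    exact hx
  obtain ⟨n, hn⟩ := IsIntegrallyClosed.isIntegral_iff.mp h1
  refine ⟨n, ?_⟩
  rw [hq, ← hn]
  simp

open Classical in
/-- The norm on the `p`-regular elements, as a real number. -/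
noncomputable def regNorm (p : ℕ) (χ : G → ℂ) : ℝ :=
  ∑ x : G, if p ∣ orderOf x then 0 else ‖χ x‖ ^ 2

open Classical in
theorem coe_regNorm (p : ℕ) (χ : G → ℂ) :
    ((regNorm p χ : ℝ) : ℂ) = ∑ x : G, if p ∣ orderOf x then 0 else χ x * conj (χ x) := by
  unfold regNorm
  push_cast
  refine Finset.sum_congr rfl fun x _ => ?_
  split_ifs
  · rfl
  · rw [Complex.mul_conj, Complex.normSq_eq_norm_sq]

theorem regNorm_nonneg (p : ℕ) (χ : G → ℂ) (x : G) :
    0 ≤ (if p ∣ orderOf x then (0 : ℝ) else ‖χ x‖ ^ 2) := by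
  split_ifs
  · exact le_rfl
  · positivity

theorem sum_norm_sq_irr (χ : IrrCharacter G) :
    ∑ g : G, ‖(χ : G → ℂ) g‖ ^ 2 = (Nat.card G : ℝ) := by
  obtain ⟨χ, n, ρ, hρ, rfl⟩ := χ
  haveI := hρ
  exact Cfsg.Agent.Lib.Char.Zeros.sum_norm_sq_character ρ

theorem regNorm_le (p : ℕ) (χ : IrrCharacter G) : regNorm p (χ : G → ℂ) ≤ Nat.card G := by
  classical
  rw [← sum_norm_sq_irr χ, regNorm]
  refine Finset.sum_le_sum fun x _ => ?_
  split_ifs
  · positivity
  · exact le_rfl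

theorem regNorm_pos {p : ℕ} (hp : p.Prime) (χ : IrrCharacter G) : 0 < regNorm p (χ : G → ℂ) := by
  classical
  unfold regNorm
  refine Finset.sum_pos' (fun x _ => regNorm_nonneg p _ x) ⟨1, Finset.mem_univ _, ?_⟩
  rw [orderOf_one, if_neg (by simpa using hp.ne_one)]
  have := Cfsg.Agent.Lib.Char.Complete.irr_one_ne_zero χ.2
  positivity

/-- If all the norm sits on `p`-regular elements, `χ` vanishes on `p`-singular elements. -/
theorem eq_zero_of_regNorm_eq {p : ℕ} (χ : IrrCharacter G) (h : regNorm p (χ : G → ℂ) = Nat.card G)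
    {g : G} (hg : p ∣ orderOf g) : (χ : G → ℂ) g = 0 := by
  classical
  have h1 : ∑ x : G, (‖(χ : G → ℂ) x‖ ^ 2 -
      (if p ∣ orderOf x then (0 : ℝ) else ‖(χ : G → ℂ) x‖ ^ 2)) = 0 := by
    rw [Finset.sum_sub_distrib, sum_norm_sq_irr χ]
    change _ - regNorm p (χ : G → ℂ) = 0
    rw [h, sub_self]
  have h2 := (Finset.sum_eq_zero_iff_of_nonneg (fun x _ => by
    split_ifs
    · simp only [sub_zero]
      positivity
    · simp only [sub_self]
      exact le_rfl)).mp h1 g (Finset.mem_univ _)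
  rw [if_pos hg, sub_zero] at h2
  simpa using h2

/-- If `χ` vanishes on `p`-singular elements, `p^a` divides the degree. -/
theorem pow_dvd_of_vanish {p a : ℕ} [Fact p.Prime] (hcard : p ^ a ∣ Nat.card G) (χ : IrrCharacter G)
    (hv : ∀ g : G, p ∣ orderOf g → (χ : G → ℂ) g = 0) : p ^ a ∣ charDegree (χ : G → ℂ) := by
  classical
  have hp := Fact.out (p := p.Prime)
  obtain ⟨Q, hQ⟩ := Sylow.exists_subgroup_card_pow_prime p hcard
  letI : Fintype Q := Fintype.ofFinite _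
  have h1 := isIntegral_avg (Cfsg.Agent.Lib.Char.Basic.isCharacter_of_isIrrCharacter χ.2) 1 Q
    (fun u _ => Commute.one_left u)
  have hQg : IsPGroup p Q := IsPGroup.of_card hQ
  have h2 : ∑ u : Q, (χ : G → ℂ) (1 * u) = (χ : G → ℂ) 1 := by
    rw [Finset.sum_eq_single (1 : Q)]
    · simp
    · intro u _ hu
      rw [one_mul]
      apply hv
      obtain ⟨k, hk⟩ := hQg u
      have hu1 : orderOf u ≠ 1 := by
        intro h
        exact hu (orderOf_eq_one_iff.mp h)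
      have h3 : orderOf u ∣ p ^ k := orderOf_dvd_of_pow_eq_one hk
      obtain ⟨m, -, hm⟩ := (Nat.dvd_prime_pow hp).mp h3
      have hm0 : m ≠ 0 := by
        rintro rfl
        exact hu1 (by simpa using hm)
      have h4 : orderOf (u : G) = orderOf u := Subgroup.orderOf_coe u
      rw [h4, hm]
      exact dvd_pow_self p hm0
    · intro h
      exact absurd (Finset.mem_univ _) h
  rw [h2, hQ, Cfsg.Agent.Lib.BlockT.CharSum.one_eq_charDegree
    (Cfsg.Agent.Lib.Char.Basic.isCharacter_of_isIrrCharacter χ.2)] at h1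
  obtain ⟨z, hz⟩ := exists_int_of_integral_mul h1 (a := ((p ^ a : ℕ) : ℤ))
    (b := (charDegree (χ : G → ℂ) : ℤ))
    (by exact_mod_cast (pow_ne_zero a hp.ne_zero)) (by
      have : ((p ^ a : ℕ) : ℂ) ≠ 0 := by exact_mod_cast (pow_ne_zero a hp.ne_zero)
      push_cast at this ⊢
      field_simp)
  have h5 : ((charDegree (χ : G → ℂ) : ℤ) : ℂ) = (((p ^ a : ℕ) : ℤ) * z : ℤ) := by
    have : ((p ^ a : ℕ) : ℂ) ≠ 0 := by exact_mod_cast (pow_ne_zero a hp.ne_zero)
    push_cast at hz this ⊢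
    rw [← hz]
    field_simp
  have h6 : (charDegree (χ : G → ℂ) : ℤ) = ((p ^ a : ℕ) : ℤ) * z := by exact_mod_cast h5
  exact Int.natCast_dvd_natCast.mp ⟨z, h6⟩

theorem isIntegral_regA [Fintype (ConjClasses G)] (p : ℕ) (χ ψ : IrrCharacter G) :
    IsIntegral ℤ (regA p (χ : G → ℂ) (ψ : G → ℂ)) := by
  classical
  rw [regA]
  refine IsIntegral.sum _ fun C _ => ?_
  split_ifs
  · exact isIntegral_zero
  · exact (isIntegral_irr χ _).mul (isIntegral_centralChar ψ _)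

/-- The key point: `A(χ, χ)` is a unit when `p^(a-1)` divides `χ(1)`. -/
theorem regA_self_notMem [Fintype (ConjClasses G)] {p : ℕ} [hp' : Fact p.Prime] {M : Ideal AlgInt}
    (hM : IsPModular p M) (χ : IrrCharacter G) {a g' : ℕ} (hcard : Nat.card G = p ^ a * g')
    (hg' : ¬ p ∣ g') (hdiv : p ^ (a - 1) ∣ charDegree (χ : G → ℂ)) :
    ¬ MemLocalIdeal M (regA p (χ : G → ℂ) (χ : G → ℂ)) := by
  classical
  have hp := hp'.out
  haveI := isPrime_of_pModular hM
  have hχc := Cfsg.Agent.Lib.Char.Basic.isCharacter_of_isIrrCharacter χ.2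
  set d := charDegree (χ : G → ℂ) with hd
  have hd1 : (χ : G → ℂ) 1 = d := Cfsg.Agent.Lib.BlockT.CharSum.one_eq_charDegree hχc
  have hd0 : d ≠ 0 := by
    intro h
    apply Cfsg.Agent.Lib.Char.Complete.irr_one_ne_zero χ.2
    rw [hd1, h]
    simp
  -- `d = p^e t`
  obtain ⟨e, t, hpt, hdet⟩ : ∃ e t : ℕ, ¬ p ∣ t ∧ d = p ^ e * t := by
    refine ⟨d.factorization p, d / p ^ d.factorization p, Nat.not_dvd_ordCompl hp hd0, ?_⟩
    exact (Nat.ordProj_mul_ordCompl_eq_self d p).symm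
  have ht0 : t ≠ 0 := by
    rintro rfl
    exact hpt (dvd_zero p)
  have hg'0 : g' ≠ 0 := by
    rintro rfl
    exact hg' (dvd_zero p)
  have hdG : d ∣ p ^ a * g' := hcard ▸ Cfsg.Agent.Lib.Char.Degree.charDegree_dvd_card χ.2
  have htg : t ∣ g' := by
    have h1 : t ∣ p ^ a * g' := (Dvd.intro_left _ hdet.symm).trans hdG
    exact (Nat.Coprime.pow_right a ((Nat.Prime.coprime_iff_not_dvd hp).mpr hpt).symm).dvd_of_dvd_mul_left h1
  obtain ⟨t', rfl⟩ := htg
  have hpt' : ¬ p ∣ t' := fun h => hg' (Dvd.dvd.mul_left h t)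
  have ht'0 : t' ≠ 0 := by
    rintro rfl
    exact hpt' (dvd_zero p)
  -- the regular norm
  have hθ : IsCharacter G (fun g => (χ : G → ℂ) g * (χ : G → ℂ) g⁻¹) :=
    Cfsg.Agent.Lib.Char.Basic.isCharacter_mul hχc (Cfsg.Agent.Lib.Char.Basic.isCharacter_inv hχc)
  obtain ⟨n, hn⟩ := Cfsg.Agent.Lib.Char.RegularSum.exists_regSum_eq_mul brauerInduction hp hcard hg' hθ
  have hregS : Cfsg.Agent.Lib.Char.RegularSum.regSum p (fun g => (χ : G → ℂ) g * (χ : G → ℂ) g⁻¹) =
      ((regNorm p (χ : G → ℂ) : ℝ) : ℂ) := by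
    rw [coe_regNorm]
    unfold Cfsg.Agent.Lib.Char.RegularSum.regSum
    refine Finset.sum_congr rfl fun x _ => ?_
    beta_reduce
    rw [Cfsg.Agent.Lib.Char.Ortho.char_inv_eq_conj hχc]
  rw [hregS] at hn
  have hn' : regNorm p (χ : G → ℂ) = ((t * t' : ℕ) : ℝ) * (n : ℝ) := by
    have : ((regNorm p (χ : G → ℂ) : ℝ) : ℂ) = (((t * t' : ℕ) : ℝ) * (n : ℝ) : ℝ) := by
      rw [hn]
      push_cast
      ring
    exact_mod_cast this
  have hpos := regNorm_pos hp χ
  have hn0 : 0 < n := by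
    by_contra hcon
    have h1 : (n : ℝ) ≤ 0 := by exact_mod_cast not_lt.mp hcon
    have h2 : (0 : ℝ) ≤ ((t * t' : ℕ) : ℝ) := Nat.cast_nonneg _
    rw [hn'] at hpos
    nlinarith
  lift n to ℕ using hn0.le
  have hn0' : 0 < n := by exact_mod_cast hn0
  have hle := regNorm_le p χ
  have hnle : n ≤ p ^ a := by
    rw [hn', hcard] at hle
    have h1 : ((t * t' * n : ℕ) : ℝ) ≤ ((p ^ a * (t * t') : ℕ) : ℝ) := by
      push_cast at hle ⊢
      linarith
    have h2 : t * t' * n ≤ p ^ a * (t * t') := by exact_mod_cast h1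
    have h3 : (t * t') * n ≤ (t * t') * p ^ a := by rw [mul_comm _ (p ^ a)]; exact h2
    exact Nat.le_of_mul_le_mul_left h3 (Nat.pos_of_ne_zero (mul_ne_zero ht0 ht'0))
  -- `A(χ, χ)` is rational
  set A := regA p (χ : G → ℂ) (χ : G → ℂ) with hA
  have hsum := sum_reg_eq p χ χ
  rw [← coe_regNorm, hn, hd1, ← hA] at hsum
  have hAeq : ((p ^ e : ℕ) : ℂ) * A = ((t' * n : ℕ) : ℂ) := by
    have ht0' : (t : ℂ) ≠ 0 := by exact_mod_cast ht0
    apply mul_left_cancel₀ ht0'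
    rw [hdet] at hsum
    push_cast at hsum ⊢
    linear_combination -hsum
  obtain ⟨z, hz⟩ := exists_int_of_integral_mul (isIntegral_regA p χ χ) (a := ((p ^ e : ℕ) : ℤ))
    (b := ((t' * n : ℕ) : ℤ)) (by exact_mod_cast (pow_ne_zero e hp.ne_zero)) (by exact_mod_cast hAeq)
  have hzeq : ((p ^ e : ℕ) : ℤ) * z = ((t' * n : ℕ) : ℤ) := by
    have : (((p ^ e : ℕ) : ℤ) * z : ℤ) = (((t' * n : ℕ) : ℤ) : ℂ) := by
      push_cast at hAeq ⊢
      rw [← hz]
      exact hAeq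
    exact_mod_cast this
  have hdvdn : p ^ e ∣ n := by
    have h1 : p ^ e ∣ t' * n := Int.natCast_dvd_natCast.mp ⟨z, hzeq.symm⟩
    exact (Nat.Coprime.pow_left e ((Nat.Prime.coprime_iff_not_dvd hp).mpr hpt')).dvd_of_dvd_mul_left h1
  obtain ⟨n', rfl⟩ := hdvdn
  have hn'0 : 0 < n' := Nat.pos_of_ne_zero (by rintro rfl; simp at hn0')
  have hzval : z = ((t' * n' : ℕ) : ℤ) := by
    have hp0 : ((p ^ e : ℕ) : ℤ) ≠ 0 := by exact_mod_cast (pow_ne_zero e hp.ne_zero)
    apply mul_left_cancel₀ hp0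
    rw [hzeq]
    push_cast
    ring
  have hAval : A = ((t' * n' : ℕ) : ℂ) := by
    rw [hA, hz, hzval]
    simp
  have hea : a - 1 ≤ e := by
    have h1 : p ^ (a - 1) ∣ p ^ e * t := hdet ▸ hdiv
    have h2 : p ^ (a - 1) ∣ p ^ e :=
      (Nat.Coprime.pow_left (a - 1) ((Nat.Prime.coprime_iff_not_dvd hp).mpr hpt)).dvd_of_dvd_mul_right h1
    exact (Nat.pow_dvd_pow_iff_le_right hp.one_lt).mp h2
  have hpn' : ¬ p ∣ n' := by
    rintro ⟨n'', rfl⟩
    have hn''0 : 0 < n'' := Nat.pos_of_ne_zero (by rintro rfl; simp at hn'0)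
    have h1 : p ^ (e + 1) * n'' ≤ p ^ a := by
      calc p ^ (e + 1) * n'' = p ^ e * (p * n'') := by ring
        _ ≤ p ^ a := hnle
    have h2 : p ^ (e + 1) ≤ p ^ a := le_trans (Nat.le_mul_of_pos_right _ hn''0) h1
    have h3 : e + 1 ≤ a := (Nat.pow_le_pow_iff_right hp.one_lt).mp h2
    have h4 : a = e + 1 := by omega
    subst h4
    have h5 : n'' = 1 := by
      have h6 : n'' ≤ 1 := by
        have := Nat.le_of_mul_le_mul_left (by simpa using h1 : p ^ (e + 1) * n'' ≤ p ^ (e + 1) * 1)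
          (pow_pos hp.pos _)
        exact this
      omega
    subst h5
    have h7 : regNorm p (χ : G → ℂ) = Nat.card G := by
      rw [hn', hcard]
      push_cast
      ring
    have h8 := pow_dvd_of_vanish (a := e + 1) (hcard ▸ Dvd.intro _ rfl) χ
      (fun g hg => eq_zero_of_regNorm_eq χ h7 hg)
    rw [← hd, hdet] at h8
    have h9 : p ^ (e + 1) ∣ p ^ e :=
      (Nat.Coprime.pow_left (e + 1) ((Nat.Prime.coprime_iff_not_dvd hp).mpr hpt)).dvd_of_dvd_mul_right h8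
    have h10 := (Nat.pow_dvd_pow_iff_le_right hp.one_lt).mp h9
    omega
  rw [hAval, natCast_memLocalIdeal_iff hM]
  intro h
  rcases (Nat.Prime.dvd_mul hp).mp h with h | h
  · exact hpt' h
  · exact hpn' h

/-- **A degree divisible by `p^(a-1)`**: all powers of `p` dividing it divide the degrees in the block. -/
theorem pow_dvd_of_sameBlock [Fintype (ConjClasses G)] {p : ℕ} [hp' : Fact p.Prime] {M : Ideal AlgInt}
    (hM : IsPModular p M) {χ ψ : IrrCharacter G} (h : SameBlock M (χ : G → ℂ) (ψ : G → ℂ))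
    {a g' : ℕ} (hcard : Nat.card G = p ^ a * g') (hg' : ¬ p ∣ g')
    (hdiv : p ^ (a - 1) ∣ charDegree (χ : G → ℂ)) {f : ℕ} (hf : p ^ f ∣ charDegree (χ : G → ℂ)) :
    p ^ f ∣ charDegree (ψ : G → ℂ) := by
  classical
  by_contra hnd
  have hp := hp'.out
  haveI := isPrime_of_pModular hM
  have hχc := Cfsg.Agent.Lib.Char.Basic.isCharacter_of_isIrrCharacter χ.2
  have hψc := Cfsg.Agent.Lib.Char.Basic.isCharacter_of_isIrrCharacter ψ.2
  have hA1 := regA_self_notMem hM χ hcard hg' hdiv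
  have hA2 : ¬ MemLocalIdeal M (regA p (χ : G → ℂ) (ψ : G → ℂ)) := by
    intro h2
    apply hA1
    have h3 := memLocalIdeal_add (regA_sub_mem p χ h) h2
    simpa using h3
  have hχ1 : (χ : G → ℂ) 1 = (charDegree (χ : G → ℂ) : ℂ) :=
    Cfsg.Agent.Lib.BlockT.CharSum.one_eq_charDegree hχc
  have hψ1 : (ψ : G → ℂ) 1 = (charDegree (ψ : G → ℂ) : ℂ) :=
    Cfsg.Agent.Lib.BlockT.CharSum.one_eq_charDegree hψc
  have hrel : (charDegree (ψ : G → ℂ) : ℂ) * regA p (χ : G → ℂ) (ψ : G → ℂ) =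
      (charDegree (χ : G → ℂ) : ℂ) * conj (regA p (ψ : G → ℂ) (χ : G → ℂ)) := by
    have h1 := sum_reg_eq p χ ψ
    have h2 := sum_reg_eq p ψ χ
    rw [hψ1] at h1
    rw [hχ1] at h2
    rw [← h1]
    have h3 := congrArg conj h2
    rw [map_mul, Complex.conj_natCast] at h3
    rw [← h3, map_sum]
    refine Finset.sum_congr rfl fun x _ => ?_
    split_ifs
    · simp
    · simp [mul_comm]
  have hdχ0 : charDegree (χ : G → ℂ) ≠ 0 := by
    intro h0
    apply Cfsg.Agent.Lib.Char.Complete.irr_one_ne_zero χ.2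
    rw [hχ1, h0]
    simp
  have hdψ0 : charDegree (ψ : G → ℂ) ≠ 0 := by
    intro h0
    apply Cfsg.Agent.Lib.Char.Complete.irr_one_ne_zero ψ.2
    rw [hψ1, h0]
    simp
  obtain ⟨w, hw⟩ := hf
  obtain ⟨b, s, hps, hdψ⟩ : ∃ b s : ℕ, ¬ p ∣ s ∧ charDegree (ψ : G → ℂ) = p ^ b * s := by
    refine ⟨(charDegree (ψ : G → ℂ)).factorization p, charDegree (ψ : G → ℂ) / p ^ (charDegree (ψ : G → ℂ)).factorization p,
      Nat.not_dvd_ordCompl hp hdψ0, ?_⟩
    exact (Nat.ordProj_mul_ordCompl_eq_self _ p).symm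
  have hb : b < f := by
    by_contra hcon
    apply hnd
    rw [hdψ]
    exact Dvd.dvd.mul_right (pow_dvd_pow p (not_lt.mp hcon)) _
  obtain ⟨c, hc⟩ : ∃ c, f = b + (c + 1) := ⟨f - b - 1, by omega⟩
  -- pass to algebraic integers
  let A2 : AlgInt := ⟨regA p (χ : G → ℂ) (ψ : G → ℂ), isIntegral_regA p χ ψ⟩
  let A3 : AlgInt := ⟨conj (regA p (ψ : G → ℂ) (χ : G → ℂ)), isIntegral_conj (isIntegral_regA p ψ χ)⟩
  have hA2' : A2 ∉ M := fun h2 => hA2 (memLocalIdeal_coe_iff.mpr h2)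
  have hs : (s : AlgInt) ∉ M := fun h3 => hps ((natCast_mem_iff hM s).mp h3)
  have heq : (s : AlgInt) * A2 = (p : AlgInt) * ((p : AlgInt) ^ c * (w : AlgInt) * A3) := by
    apply Subtype.ext
    have hpb : ((p : ℂ) ^ b) ≠ 0 := pow_ne_zero _ (by exact_mod_cast hp.ne_zero)
    apply mul_left_cancel₀ hpb
    have h3 := hrel
    rw [hdψ, hw, hc] at h3
    push_cast at h3 ⊢
    change (p : ℂ) ^ b * ((s : ℂ) * regA p (χ : G → ℂ) (ψ : G → ℂ)) =
      (p : ℂ) ^ b * ((p : ℂ) * ((p : ℂ) ^ c * (w : ℂ) * conj (regA p (ψ : G → ℂ) (χ : G → ℂ))))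
    linear_combination h3
  have hmem : (s : AlgInt) * A2 ∈ M := by
    rw [heq]
    exact M.mul_mem_right _ hM.2.2
  exact mul_notMem hs hA2' hmem

/-- **A degree divisible by `p^(a-1)`.** -/
theorem dvd_of_sameBlock [Fintype (ConjClasses G)] {p : ℕ} [hp' : Fact p.Prime] {M : Ideal AlgInt}
    (hM : IsPModular p M) {χ ψ : IrrCharacter G} (h : SameBlock M (χ : G → ℂ) (ψ : G → ℂ))
    {a g' : ℕ} (hcard : Nat.card G = p ^ a * g') (hg' : ¬ p ∣ g')
    (hdiv : p ^ (a - 1) ∣ charDegree (χ : G → ℂ)) : p ^ (a - 1) ∣ charDegree (ψ : G → ℂ) :=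
  pow_dvd_of_sameBlock hM h hcard hg' hdiv hdiv

end Cfsg.Agent.Lib.BlockP.TopHeight
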