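import Cfsg.Agent.Lib.BlockP.Defect
import Cfsg.Agent.Lib.Blocks.Main
import Cfsg.Agent.Lib.BlockT.CharSum
import Cfsg.Agent.S0932

/-!
# Degrees of block parts of induced characters
-/

set_option autoImplicit false

namespace Cfsg.Agent.Lib.BlockP.InducedDeg

open Cfsg Module
open Cfsg.Agent.Lib.Blocks.Local
open Cfsg.Agent.Lib.Blocks.Central
open Cfsg.Agent.Lib.Blocks.Main
open Cfsg.Agent.Lib.BlockP.Stable
open scoped ComplexConjugate

universe u

section Numeric

variable {M : Ideal AlgInt} {p : ℕ}

/-- A quotient of integers with numerator of no smaller `p`-exponent is local. -/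
theorem memLocalRing_div (hM : IsPModular p M) {a b : ℕ} (ha : a ≠ 0) (hb : b ≠ 0)
    (h : b.factorization p ≤ a.factorization p) : MemLocalRing M ((a : ℂ) / b) := by
  haveI hprime := isPrime_of_pModular hM
  have hp := prime_of_pModular hM
  have hbnd : ¬ p ∣ b / p ^ b.factorization p := Nat.not_dvd_ordCompl hp hb
  have hae : a = p ^ a.factorization p * (a / p ^ a.factorization p) :=
    (Nat.ordProj_mul_ordCompl_eq_self _ _).symm
  have hbe : b = p ^ b.factorization p * (b / p ^ b.factorization p) :=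
    (Nat.ordProj_mul_ordCompl_eq_self _ _).symm
  obtain ⟨k, hk⟩ : ∃ k, a.factorization p = b.factorization p + k := ⟨_, (Nat.add_sub_cancel' h).symm⟩
  have hpc : (p : ℂ) ≠ 0 := Nat.cast_ne_zero.mpr hp.ne_zero
  have hb'c : ((b / p ^ b.factorization p : ℕ) : ℂ) ≠ 0 := by
    intro h0
    apply hbnd
    have : b / p ^ b.factorization p = 0 := by exact_mod_cast h0
    rw [this]
    exact dvd_zero _
  have hform : (a : ℂ) / b = (p : ℂ) ^ k * (((a / p ^ a.factorization p : ℕ) : ℂ) *
      ((b / p ^ b.factorization p : ℕ) : ℂ)⁻¹) := by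
    conv_lhs => rw [hae, hbe, hk]
    push_cast
    rw [hk] 
    push_cast at hb'c
    field_simp
    ring
  rw [hform]
  exact memLocalRing_mul (memLocalRing_pow (memLocalRing_natCast _) _)
    (memLocalRing_mul (memLocalRing_natCast _) (memLocalRing_natCast_inv hM hbnd))

/-- A quotient of integers with numerator of larger `p`-exponent is in the local ideal. -/
theorem memLocalIdeal_div (hM : IsPModular p M) {a b : ℕ} (ha : a ≠ 0) (hb : b ≠ 0)
    (h : b.factorization p < a.factorization p) : MemLocalIdeal M ((a : ℂ) / b) := by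
  haveI hprime := isPrime_of_pModular hM
  have hp := prime_of_pModular hM
  have hbnd : ¬ p ∣ b / p ^ b.factorization p := Nat.not_dvd_ordCompl hp hb
  have hae : a = p ^ a.factorization p * (a / p ^ a.factorization p) :=
    (Nat.ordProj_mul_ordCompl_eq_self _ _).symm
  have hbe : b = p ^ b.factorization p * (b / p ^ b.factorization p) :=
    (Nat.ordProj_mul_ordCompl_eq_self _ _).symm
  obtain ⟨k, hk⟩ : ∃ k, a.factorization p = b.factorization p + (k + 1) :=
    ⟨a.factorization p - b.factorization p - 1, by omega⟩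
  have hpc : (p : ℂ) ≠ 0 := Nat.cast_ne_zero.mpr hp.ne_zero
  have hb'c : ((b / p ^ b.factorization p : ℕ) : ℂ) ≠ 0 := by
    intro h0
    apply hbnd
    have : b / p ^ b.factorization p = 0 := by exact_mod_cast h0
    rw [this]
    exact dvd_zero _
  have hform : (a : ℂ) / b = (p : ℂ) ^ (k + 1) * (((a / p ^ a.factorization p : ℕ) : ℂ) *
      ((b / p ^ b.factorization p : ℕ) : ℂ)⁻¹) := by
    conv_lhs => rw [hae, hbe, hk]
    push_cast
    rw [hk]
    push_cast at hb'c
    field_simp
    ring
  rw [hform]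
  have hpow : MemLocalIdeal M ((p : ℂ) ^ (k + 1)) := by
    rw [pow_succ]
    exact memLocalIdeal_mul_left (memLocalRing_pow (memLocalRing_natCast _) _) (p_memLocalIdeal hM)
  exact memLocalIdeal_mul_right hpow
    (memLocalRing_mul (memLocalRing_natCast _) (memLocalRing_natCast_inv hM hbnd))

/-- If `n / t` lies in the local ideal, then `n = 0` or the exponent of `p` in `n` is larger. -/
theorem factorization_lt_of_memLocalIdeal (hM : IsPModular p M) {n t : ℕ} (ht : t ≠ 0)
    (h : MemLocalIdeal M ((n : ℂ) / t)) : n = 0 ∨ t.factorization p < n.factorization p := by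
  haveI hprime := isPrime_of_pModular hM
  by_contra hcon
  push Not at hcon
  obtain ⟨hn, hle⟩ := hcon
  have h1 := memLocalRing_div (M := M) hM ht hn hle
  have h2 := memLocalIdeal_mul_right h h1
  have htc : (t : ℂ) ≠ 0 := Nat.cast_ne_zero.mpr ht
  have hnc : (n : ℂ) ≠ 0 := Nat.cast_ne_zero.mpr hn
  have h3 : (n : ℂ) / t * ((t : ℂ) / n) = 1 := by
    field_simp
  rw [h3] at h2
  exact one_notMemLocalIdeal h2

/-- If `n / t` is congruent to `1`, then `n ≠ 0` and `n, t` have the same exponent of `p`. -/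
theorem factorization_eq_of_sub_one_mem (hM : IsPModular p M) {n t : ℕ} (ht : t ≠ 0)
    (h : MemLocalIdeal M ((n : ℂ) / t - 1)) : n ≠ 0 ∧ n.factorization p = t.factorization p := by
  haveI hprime := isPrime_of_pModular hM
  have hnot : ¬ MemLocalIdeal M ((n : ℂ) / t) := by
    intro h0
    have h1 := memLocalIdeal_sub h0 h
    simp only [sub_sub_cancel] at h1
    exact one_notMemLocalIdeal h1
  have hn : n ≠ 0 := by
    rintro rfl
    apply hnot
    simpa using memLocalIdeal_zero (M := M)
  refine ⟨hn, ?_⟩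
  apply le_antisymm
  · by_contra hlt
    push Not at hlt
    exact hnot (memLocalIdeal_div hM hn ht hlt)
  · by_contra hlt
    push Not at hlt
    have h1 := memLocalIdeal_div (M := M) hM ht hn hlt
    have h2 : MemLocalRing M ((n : ℂ) / t) := by
      have := memLocalRing_add (memLocalRing_of_memLocalIdeal h) (memLocalRing_one (M := M))
      simpa using this
    have h3 := memLocalIdeal_mul_left h2 h1
    have htc : (t : ℂ) ≠ 0 := Nat.cast_ne_zero.mpr ht
    have hnc : (n : ℂ) ≠ 0 := Nat.cast_ne_zero.mpr hn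
    have h4 : (n : ℂ) / t * ((t : ℂ) / n) = 1 := by
      field_simp
    rw [h4] at h3
    exact one_notMemLocalIdeal h3

end Numeric

variable {G : Type u} [Group G] [Fintype G]

/-- `lin` of a class function on a central element, over the classes. -/
theorem omega_eq_sum_classes [Fintype (ConjClasses G)] {Θ : G → ℂ} (hΘ : IsClassFunction G Θ)
    (z : Subalgebra.center ℂ (GA G)) :
    omega Θ (z : GA G) = ∑ C : ConjClasses G, (z : GA G).coeff C.out *
      centralChar Θ C.out := by
  conv_lhs => rw [eq_sum_classSum z]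
  rw [omega]
  have h1 : ((∑ C : ConjClasses G, (z : GA G).coeff C.out • classSum C.out :
      Subalgebra.center ℂ (GA G)) : GA G) =
      ∑ C : ConjClasses G, (z : GA G).coeff C.out • (classSum C.out : GA G) := by
    push_cast
    rfl
  rw [h1, map_sum, Finset.sum_div]
  refine Fintype.sum_congr _ _ fun C => ?_
  rw [map_smul, smul_eq_mul, lin_classSum hΘ, centralChar]
  ring

variable [Fintype (IrrCharacter G)]

/-- The block part of the induced character at `1`, divided by the degree, is congruent to the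
central character of `χ₀ ∈ B₀` on the idempotent of `B`. -/
theorem blockPart_indFun_div_sub_mem {M : Ideal AlgInt} {p : ℕ} (hM : IsPModular p M)
    (H : Subgroup G) [Fintype H] {b : Set (IrrCharacter H)} {B₀ B : Set (IrrCharacter G)}
    (hind : IsInducedBlock M H b B₀) (hB : IsPBlock M B) {ξ : IrrCharacter H} (hξ : ξ ∈ b)
    {χ₀ : IrrCharacter G} (hχ₀ : χ₀ ∈ B₀) [DecidablePred (· ∈ B)] :
    MemLocalIdeal M (blockPart B (indFun H (ξ : H → ℂ)) 1 / (indFun H (ξ : H → ℂ) 1) -
      (if χ₀ ∈ B then 1 else 0)) := by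
  classical
  haveI hprime := isPrime_of_pModular hM
  letI := Fintype.ofFinite (ConjClasses G)
  have hξc := Cfsg.Agent.Lib.Char.Basic.isCharacter_of_isIrrCharacter ξ.2
  have hcl : IsClassFunction G (indFun H (ξ : H → ℂ)) :=
    Cfsg.Agent.Lib.Char.Induced.isClassFunction_indFun H _
  have h1 : blockPart B (indFun H (ξ : H → ℂ)) 1 / (indFun H (ξ : H → ℂ) 1) =
      omega (indFun H (ξ : H → ℂ)) (idem B : GA G) := by
    rw [blockPart_eq_sum_idem B hcl, omega, lin_apply]
    simp only [mul_one, coeff_idem]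
  rw [h1, omega_eq_sum_classes hcl, ← omegaHom_idem, omegaHom_eq_sum_classes,
    ← Finset.sum_sub_distrib]
  apply memLocalIdeal_sum
  intro C _
  rw [← mul_sub]
  apply memLocalIdeal_mul_left (memLocalRing_blockCoeff hB _)
  rw [← Cfsg.Agent.S0932.result H (ξ : H → ℂ) hξc]
  exact hind.2.2 ξ hξ χ₀ hχ₀ _

/-- The block part at `1` of a character, as a natural number. -/
theorem exists_nat_blockPart {Θ : G → ℂ} (hΘ : IsCharacter G Θ) (B : Set (IrrCharacter G)) :
    ∃ n : ℕ, blockPart B Θ 1 = (n : ℂ) := by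
  classical
  rw [blockPart_apply]
  have h : ∀ χ : IrrCharacter G, ∃ n : ℕ, (if χ ∈ B then classInner Θ (χ : G → ℂ) * (χ : G → ℂ) 1 else 0) = (n : ℂ) := by
    intro χ
    split_ifs
    · obtain ⟨m, hm⟩ := Cfsg.Agent.Lib.Char.Ortho.exists_nat_classInner hΘ
        (Cfsg.Agent.Lib.Char.Basic.isCharacter_of_isIrrCharacter χ.2)
      refine ⟨m * charDegree (χ : G → ℂ), ?_⟩
      rw [hm, ← Cfsg.Agent.Lib.Char.Degree.charDegree_natCast
        (Cfsg.Agent.Lib.Char.Basic.isCharacter_of_isIrrCharacter χ.2)]
      push_cast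
      rfl
    · exact ⟨0, by simp⟩
  choose f hf using h
  refine ⟨∑ χ, f χ, ?_⟩
  rw [Nat.cast_sum]
  exact Fintype.sum_congr _ _ hf

end Cfsg.Agent.Lib.BlockP.InducedDeg
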